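import Mathlib.GroupTheory.Sylow
import Mathlib.GroupTheory.Subgroup.Center
import Mathlib.Algebra.BigOperators.GroupWithZero.Finset
import Mathlib.Algebra.Order.BigOperators.Ring.Finset

/-!
A `q`-group acting on a coprime abelian group without common fixed points has an element whose
fixed points number at most the square root of the order.
-/

set_option autoImplicit false
set_option linter.unusedSectionVars false

namespace Cfsg.Agent.Block.PrimClass

universe u v

variable {V : Type u} [CommGroup V] [Finite V] {B : Type v} [Group B]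

/-- The fixed points of an automorphism. -/
def fix (σ : B →* MulAut V) (b : B) : Subgroup V where
  carrier := {v | σ b v = v}
  mul_mem' {x y} hx hy := by
    show σ b (x * y) = x * y
    rw [map_mul, (hx : σ b x = x), (hy : σ b y = y)]
  one_mem' := map_one _
  inv_mem' {x} hx := by
    show σ b x⁻¹ = x⁻¹
    rw [map_inv, (hx : σ b x = x)]

theorem mem_fix {σ : B →* MulAut V} {b : B} {v : V} : v ∈ fix σ b ↔ σ b v = v := Iff.rfl

theorem act_mul (σ : B →* MulAut V) (a b : B) (v : V) : σ (a * b) v = σ a (σ b v) := by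
  rw [map_mul]; rfl

theorem prod_fix_le [Fintype B] (σ : B →* MulAut V) {q : ℕ} [hq : Fact q.Prime]
    (hB : IsPGroup q B) (hcop : (Nat.card V).Coprime q) :
    ∀ (n : ℕ) (U : Subgroup V), Nat.card U ≤ n → (∀ b, ∀ u ∈ U, σ b u ∈ U) →
      (∀ u ∈ U, (∀ b, σ b u = u) → u = 1) →
      (∏ b : B, Nat.card (fix σ b ⊓ U : Subgroup V)) ^ q ≤ Nat.card U ^ Fintype.card B := by
  classical
  intro n
  induction n with
  | zero => intro U h; exact absurd h (by simp [Nat.card_pos.ne'])
  | succ n ih =>
    intro U hUn hinv hfix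
    by_cases hbot : U = ⊥
    · subst hbot
      simp
    obtain ⟨u₀, hu₀, hu₀1⟩ := (Subgroup.bot_or_exists_ne_one U).resolve_left hbot
    -- the kernel of the action on `U`
    set K : Subgroup B :=
      { carrier := {b | ∀ u ∈ U, σ b u = u}
        mul_mem' := fun {a b} ha hb u hu => by rw [act_mul, hb u hu, ha u hu]
        one_mem' := fun u _ => by rw [map_one]; rfl
        inv_mem' := fun {a} ha u hu => by
          conv_lhs => rw [← ha u hu, ← act_mul, inv_mul_cancel, map_one]
          rfl } with hK
    have hmemK : ∀ b, b ∈ K ↔ ∀ u ∈ U, σ b u = u := fun b => Iff.rfl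
    haveI : K.Normal := ⟨fun b hb g u hu => by
      rw [act_mul, act_mul, hb _ (hinv g⁻¹ u hu), ← act_mul, mul_inv_cancel, map_one]
      rfl⟩
    have hKtop : K ≠ ⊤ := fun h => hu₀1 (hfix u₀ hu₀ fun b => (h ▸ Subgroup.mem_top b : b ∈ K) u₀ hu₀)
    haveI : Nontrivial (B ⧸ K) := QuotientGroup.nontrivial_iff.2 hKtop
    have hBK : IsPGroup q (B ⧸ K) := hB.to_quotient K
    haveI := hBK.center_nontrivial
    obtain ⟨z₁, hz₁⟩ := exists_prime_orderOf_dvd_card' q
      (show q ∣ Nat.card (Subgroup.center (B ⧸ K)) by
        obtain ⟨k, hk⟩ := IsPGroup.iff_card.1 (hBK.to_subgroup (Subgroup.center (B ⧸ K)))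
        rw [hk]
        refine dvd_pow_self q fun h => ?_
        rw [h, pow_zero] at hk
        exact absurd hk (Finite.one_lt_card.ne'))
    obtain ⟨z, hz⟩ := QuotientGroup.mk_surjective (z₁ : B ⧸ K)
    have hzord : orderOf (z : B ⧸ K) = q := by rw [hz, Subgroup.orderOf_coe, hz₁]
    have hzK : z ∉ K := fun h => hq.out.ne_one (by
      rw [← hzord, (QuotientGroup.eq_one_iff z).2 h, orderOf_one])
    have hzq : z ^ q ∈ K := (QuotientGroup.eq_one_iff (z ^ q)).1 (by
      rw [QuotientGroup.mk_pow, ← hzord, pow_orderOf_eq_one])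
    have hcomm : ∀ (b : B), ∀ u ∈ U, σ b (σ z u) = σ z (σ b u) := by
      intro b u hu
      have hk : (z * b)⁻¹ * (b * z) ∈ K := by
        rw [← QuotientGroup.eq, QuotientGroup.mk_mul, QuotientGroup.mk_mul, hz]
        exact (Subgroup.mem_center_iff.1 z₁.2 _).symm
      rw [← act_mul, ← act_mul, show b * z = (z * b) * ((z * b)⁻¹ * (b * z)) by group, act_mul,
        hk u hu]
    have hinvpow : ∀ i : ℕ, ∀ u ∈ U, σ (z ^ i) u ∈ U := fun i u hu => hinv _ u hu
    -- the norm of `z`
    let N : V →* V :=
      { toFun := fun v => ∏ i ∈ Finset.range q, σ (z ^ i) v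
        map_one' := by simp
        map_mul' := fun a b => by simp [Finset.prod_mul_distrib] }
    have hNU : ∀ u ∈ U, N u ∈ U := fun u hu =>
      (prod_mem (fun i _ => hinvpow i u hu) : ∏ i ∈ Finset.range q, σ (z ^ i) u ∈ U)
    have hzN : ∀ u ∈ U, σ z (N u) = N u := by
      intro u hu
      show σ z (∏ i ∈ Finset.range q, σ (z ^ i) u) = ∏ i ∈ Finset.range q, σ (z ^ i) u
      rw [map_prod]
      have h1 : ∀ i, σ z (σ (z ^ i) u) = σ (z ^ (i + 1)) u := fun i => by rw [pow_succ', act_mul]
      simp only [h1]
      have h2 := Finset.prod_range_succ' (fun i => σ (z ^ i) u) q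
      have h3 := Finset.prod_range_succ (fun i => σ (z ^ i) u) q
      rw [h3, hzq u hu, pow_zero, map_one] at h2
      exact mul_right_cancel h2.symm
    have hbN : ∀ (b : B), ∀ u ∈ U, σ b (N u) = N (σ b u) := by
      intro b u hu
      show σ b (∏ i ∈ Finset.range q, σ (z ^ i) u) = ∏ i ∈ Finset.range q, σ (z ^ i) (σ b u)
      rw [map_prod]
      refine Finset.prod_congr rfl fun i hi0 => ?_
      clear hi0
      induction i with
      | zero => simp [map_one]
      | succ i hi => rw [pow_succ', act_mul, act_mul, hcomm b _ (hinvpow i u hu), hi]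
    set W : Subgroup V := fix σ z ⊓ U with hW
    set W' : Subgroup V := N.ker ⊓ U with hW'
    have hdisj : W ⊓ W' = ⊥ := by
      rw [eq_bot_iff]
      rintro u ⟨⟨hu, hUu⟩, hN, -⟩
      have hpow : ∀ i : ℕ, σ (z ^ i) u = u := fun i => by
        induction i with
        | zero => simp
        | succ i hi => rw [pow_succ', act_mul, hi, mem_fix.1 hu]
      have h1 : ∏ i ∈ Finset.range q, σ (z ^ i) u = 1 := hN
      simp only [hpow, Finset.prod_const, Finset.card_range] at h1
      exact orderOf_eq_one_iff.1 (Nat.eq_one_of_dvd_coprimes hcop (orderOf_dvd_natCard u)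
        (orderOf_dvd_of_pow_eq_one h1))
    by_cases hWbot : W = ⊥
    · -- `z` moves every non-trivial element
      have hfree : ∀ i : ℕ, i.Coprime q → ∀ u ∈ U, σ (z ^ i) u = u → u = 1 := by
        intro i hi u hu h
        have hmul : ∀ k : ℕ, σ (z ^ (i * k)) u = u := fun k => by
          induction k with
          | zero => simp
          | succ k hk => rw [Nat.mul_succ, pow_add, act_mul, h, hk]
        obtain ⟨k, hk⟩ := Nat.exists_mul_mod_eq_one_of_coprime hi hq.out.one_lt
        have h1 := hmul k
        rw [← Nat.mod_add_div (i * k) q, hk.2, pow_add, pow_one, pow_mul, act_mul,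
          (pow_mem hzq _ : (z ^ q) ^ _ ∈ K) u hu] at h1
        exact Subgroup.mem_bot.1 (hWbot ▸ (⟨h1, hu⟩ : u ∈ W))
      have hcoset : ∀ b : B, ∏ i : Fin q, Nat.card (fix σ (b * z ^ (i : ℕ)) ⊓ U : Subgroup V) ≤
          Nat.card U := by
        intro b
        rw [← Nat.card_pi]
        let f : (∀ i : Fin q, (fix σ (b * z ^ (i : ℕ)) ⊓ U : Subgroup V)) →* U :=
          { toFun := fun x => ⟨∏ i, (x i : V), prod_mem fun i _ => (x i).2.2⟩
            map_one' := Subtype.ext (by simp)
            map_mul' := fun x y => Subtype.ext (by simp [Finset.prod_mul_distrib]) }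
        refine Nat.card_le_card_of_injective f ((injective_iff_map_eq_one f).2 fun x hx => ?_)
        suffices hind : ∀ s : Finset (Fin q), ∀ u : Fin q → V,
            (∀ i : Fin q, u i ∈ fix σ (b * z ^ (i : ℕ)) ⊓ U) → ∏ i ∈ s, u i = 1 → ∀ i ∈ s, u i = 1 from
          funext fun i => Subtype.ext (hind Finset.univ (fun i => (x i : V)) (fun i => (x i).2)
            (congrArg Subtype.val hx) i (Finset.mem_univ i))
        intro s
        induction s using Finset.induction_on with
        | empty => simp
        | insert j s hj hs =>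
          intro u hu hprod
          let T : V →* V :=
            { toFun := fun v => σ (b * z ^ (j : ℕ)) v / v
              map_one' := by simp
              map_mul' := fun a c => by rw [map_mul, mul_div_mul_comm] }
          have hTU : ∀ v ∈ U, T v ∈ U := fun v hv => div_mem (hinv _ v hv) hv
          have hTfix : ∀ i : Fin q, T (u i) ∈ fix σ (b * z ^ (i : ℕ)) ⊓ U := by
            intro i
            refine ⟨mem_fix.2 ?_, hTU _ (hu i).2⟩
            show σ (b * z ^ (i : ℕ)) (σ (b * z ^ (j : ℕ)) (u i) / u i) = _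
            rw [map_div, mem_fix.1 (hu i).1]
            congr 1
            have hc : ∀ (c : B) (l : ℕ), ∀ v ∈ U, σ c (σ (z ^ l) v) = σ (z ^ l) (σ c v) := by
              intro c l v hv
              induction l with
              | zero => simp
              | succ l hl => rw [pow_succ', act_mul, act_mul, hcomm c _ (hinvpow l v hv), hl]
            -- the two elements differ by a power of `z` on `U`
            have hc' : ∀ k l : ℕ, ∀ v ∈ U, σ (b * z ^ k) (σ (b * z ^ l) v) =
                σ (b * b) (σ (z ^ (k + l)) v) := by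
              intro k l v hv
              rw [act_mul σ b (z ^ l), act_mul σ b (z ^ k), ← hc b k _ (hinvpow l v hv), ← act_mul σ b b,
                ← act_mul σ (z ^ k), ← pow_add]
            have h1 : σ (b * z ^ (i : ℕ)) (σ (b * z ^ (j : ℕ)) (u i)) =
                σ (b * z ^ (j : ℕ)) (σ (b * z ^ (i : ℕ)) (u i)) := by
              rw [hc' _ _ _ (hu i).2, hc' _ _ _ (hu i).2, add_comm]
            rw [h1, mem_fix.1 (hu i).1]
          have hTs : ∏ i ∈ s, T (u i) = 1 := by
            have h := congrArg T hprod
            rwa [Finset.prod_insert hj, map_mul, map_prod, map_one,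
              show T (u j) = 1 from div_eq_one.2 (hu j).1, one_mul] at h
          have hT1 := hs (fun i => T (u i)) hTfix hTs
          have h1 : ∀ i ∈ s, u i = 1 := by
            intro i hi
            have hij : i ≠ j := fun h => hj (h ▸ hi)
            have e1 : σ (b * z ^ (j : ℕ)) (u i) = σ (b * z ^ (i : ℕ)) (u i) := by
              rw [div_eq_one.1 (hT1 i hi), mem_fix.1 (hu i).1]
            rw [act_mul, act_mul] at e1
            have e2 := (σ b).injective e1
            rcases lt_or_gt_of_ne (fun h : (i : ℕ) = j => hij (Fin.ext h)) with hlt | hlt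
            · rw [← Nat.sub_add_cancel hlt.le, pow_add, act_mul] at e2
              have h3 := hfree ((j : ℕ) - i) ((Nat.coprime_comm.1 ((hq.out.coprime_iff_not_dvd).2
                fun h => absurd (Nat.le_of_dvd (by omega) h) (by omega)))) _
                (hinvpow i _ (hu i).2) e2
              exact (σ (z ^ (i : ℕ))).map_eq_one_iff.1 h3
            · rw [← Nat.sub_add_cancel hlt.le, pow_add, act_mul] at e2
              have h3 := hfree ((i : ℕ) - j) ((Nat.coprime_comm.1 ((hq.out.coprime_iff_not_dvd).2
                fun h => absurd (Nat.le_of_dvd (by omega) h) (by omega)))) _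
                (hinvpow j _ (hu i).2) e2.symm
              exact (σ (z ^ (j : ℕ))).map_eq_one_iff.1 h3
          intro i hi
          rcases Finset.mem_insert.1 hi with rfl | hi
          · rw [Finset.prod_insert hj, Finset.prod_eq_one h1, mul_one] at hprod
            exact hprod
          · exact h1 i hi
      calc (∏ b : B, Nat.card (fix σ b ⊓ U : Subgroup V)) ^ q
          = ∏ i : Fin q, ∏ b : B, Nat.card (fix σ (b * z ^ (i : ℕ)) ⊓ U : Subgroup V) := by
            symm
            refine (Finset.prod_congr rfl (g := fun _ : Fin q => ∏ b : B,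
              Nat.card (fix σ b ⊓ U : Subgroup V)) fun i _ =>
                Equiv.prod_comp (Equiv.mulRight (z ^ (i : ℕ)))
                  (fun b => Nat.card (fix σ b ⊓ U : Subgroup V))).trans ?_
            rw [Finset.prod_const, Finset.card_univ, Fintype.card_fin]
        _ = ∏ b : B, ∏ i : Fin q, Nat.card (fix σ (b * z ^ (i : ℕ)) ⊓ U : Subgroup V) :=
            Finset.prod_comm
        _ ≤ ∏ _b : B, Nat.card U := Finset.prod_le_prod' fun b _ => hcoset b
        _ = Nat.card U ^ Fintype.card B := by rw [Finset.prod_const, Finset.card_univ]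
    -- split off the fixed points of `z`
    have hlt : ∀ X : Subgroup V, X ≤ U → X ≠ U → Nat.card X ≤ n := fun X hX hne => by
      have : Nat.card X < Nat.card U := lt_of_le_of_ne (Nat.le_of_dvd Nat.card_pos
        (Subgroup.card_dvd_of_le hX)) fun h => hne (Subgroup.eq_of_le_of_card_ge hX h.ge)
      omega
    have hWne : W ≠ U := fun h => hzK fun u hu => ((h ▸ hu : u ∈ W)).1
    have hW'ne : W' ≠ U := fun h => hWbot (by rw [← hdisj, h, inf_eq_left.2 inf_le_right])
    have hW1 := ih W (hlt W inf_le_right hWne) (fun b u hu => ⟨(show σ z (σ b u) = σ b u by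
      rw [← hcomm b u hu.2, mem_fix.1 hu.1]), hinv b u hu.2⟩)
      fun u hu h => hfix u hu.2 h
    have hW2 := ih W' (hlt W' inf_le_right hW'ne) (fun b u hu => ⟨(show N (σ b u) = 1 by
      rw [← hbN b u hu.2, MonoidHom.mem_ker.1 hu.1, map_one]), hinv b u hu.2⟩)
      fun u hu h => hfix u hu.2 h
    have hmul : Nat.card W * Nat.card W' ≤ Nat.card U := by
      rw [← Nat.card_prod]
      refine Nat.card_le_card_of_injective
        (fun x : W × W' => (⟨(x.1 : V) * x.2, mul_mem x.1.2.2 x.2.2.2⟩ : U)) fun x y h => ?_
      exact Subgroup.mul_injective_of_disjoint (disjoint_iff.2 hdisj) (congrArg Subtype.val h)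
    have hsplit : ∀ b : B, Nat.card (fix σ b ⊓ U : Subgroup V) ≤
        Nat.card (fix σ b ⊓ W : Subgroup V) * Nat.card (fix σ b ⊓ W' : Subgroup V) := by
      intro b
      set S : Subgroup V := fix σ b ⊓ U
      set f : S →* V := N.comp S.subtype
      rw [← f.ker.card_mul_index, Subgroup.index_ker, mul_comm]
      refine Nat.mul_le_mul (Nat.le_of_dvd Nat.card_pos (Subgroup.card_dvd_of_le ?_))
        (Nat.card_le_card_of_injective
          (fun x : f.ker => (⟨((x : S) : V), (x : S).2.1, ⟨x.2, (x : S).2.2⟩⟩ :
            (fix σ b ⊓ W' : Subgroup V))) fun x y h =>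
          Subtype.ext (Subtype.ext (congrArg (fun t : (fix σ b ⊓ W' : Subgroup V) => (t : V)) h)))
      rintro _ ⟨⟨u, hub, huU⟩, rfl⟩
      exact ⟨mem_fix.2 ((hbN b u huU).trans (congrArg N (mem_fix.1 hub))),
        mem_fix.2 (hzN u huU), hNU u huU⟩
    calc (∏ b : B, Nat.card (fix σ b ⊓ U : Subgroup V)) ^ q
        ≤ (∏ b : B, Nat.card (fix σ b ⊓ W : Subgroup V) *
            Nat.card (fix σ b ⊓ W' : Subgroup V)) ^ q :=
          Nat.pow_le_pow_left (Finset.prod_le_prod' fun b _ => hsplit b) q
      _ ≤ Nat.card W ^ Fintype.card B * Nat.card W' ^ Fintype.card B := by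
          rw [Finset.prod_mul_distrib, mul_pow]
          exact Nat.mul_le_mul hW1 hW2
      _ ≤ Nat.card U ^ Fintype.card B := by
          rw [← mul_pow]
          exact Nat.pow_le_pow_left hmul _

/-- Some element fixes at most the square root of the order. -/
theorem exists_small_fix [Finite B] (σ : B →* MulAut V) {q : ℕ} [hq : Fact q.Prime]
    (hB : IsPGroup q B) (hcop : (Nat.card V).Coprime q)
    (hfix : ∀ v : V, (∀ b, σ b v = v) → v = 1) :
    ∃ b : B, Nat.card (fix σ b) ^ 2 ≤ Nat.card V := by
  classical
  letI := Fintype.ofFinite B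
  by_contra hno
  push Not at hno
  have h := prod_fix_le σ hB hcop _ (⊤ : Subgroup V) le_rfl (fun _ _ _ => trivial)
    fun v _ hv => hfix v hv
  simp only [inf_top_eq, Subgroup.card_top] at h
  have h2 : (∏ b : B, Nat.card (fix σ b)) ^ 2 ≤ Nat.card V ^ Fintype.card B :=
    (Nat.pow_le_pow_right (Finset.prod_pos fun b _ => Nat.card_pos) hq.out.two_le).trans h
  rw [← Finset.prod_pow] at h2
  refine absurd h2 (not_le.2 ?_)
  calc Nat.card V ^ Fintype.card B = ∏ _b : B, Nat.card V := by
        rw [Finset.prod_const, Finset.card_univ]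
    _ < ∏ b : B, Nat.card (fix σ b) ^ 2 :=
        Finset.prod_lt_prod_of_nonempty (fun _ _ => Nat.card_pos) (fun b _ => hno b)
          Finset.univ_nonempty

end Cfsg.Agent.Block.PrimClass
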