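import Cfsg.Agent.Lib.Block.PrimClass.Avg
import Cfsg.Agent.Lib.Char.QuasiPrimitiveTools
import Cfsg.Agent.Lib.Char.OverCyclic
import Cfsg.Agent.Lib.Char.Kernel
import Cfsg.Agent.Lib.Grp.Frattini
import Cfsg.Prelude.Def_Blocks

/-!
In a metanilpotent group whose order has two prime divisors, the degree of a primitive character
divides a class size.
-/

set_option autoImplicit false
set_option linter.unusedSectionVars false
set_option linter.style.haveILetI false

open scoped commutatorElement ComplexConjugate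

namespace Cfsg.Agent.Block.PrimClass

open Cfsg Cfsg.Agent Cfsg.Agent.Char

universe u

variable {G : Type u} [Group G] [Fintype G]

/-- Not induced from a proper subgroup. -/
def Prim (χ : G → ℂ) : Prop :=
  ∀ H : Subgroup G, H ≠ ⊤ → ∀ θ : H → ℂ, IsCharacter H θ → indFun H θ ≠ χ

theorem homog {χ : G → ℂ} (hχ : IsIrrCharacter G χ) (hp : Prim χ) (N : Subgroup G) [N.Normal]
    [Fintype N] :
    ∃ (θ : N → ℂ) (e : ℕ), IsIrrCharacter N θ ∧ classInner (fun n : N => χ n) θ = (e : ℂ) ∧
      e ≠ 0 ∧ (fun n : N => χ n) = (e : ℂ) • θ := by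
  classical
  obtain ⟨θ, hθ⟩ := IsChar.exists_constituent' (IsChar.res (IsIrr.isCharacter hχ) N)
    (show χ ((1 : N) : G) ≠ 0 from IsIrr.one_ne_zero hχ)
  obtain ⟨e, he⟩ := IsChar.classInner_nat (IsChar.res (IsIrr.isCharacter hχ) N)
    (IsIrr.isCharacter θ.2)
  have he0 : e ≠ 0 := fun h => hθ (by rw [he, h, Nat.cast_zero])
  set T := inertia N (θ : N → ℂ) with hT
  have hTtop : T = ⊤ := by
    by_contra hne
    haveI := Fintype.ofFinite T
    obtain ⟨ψ, hψ, hind, -⟩ := Corr.exists_correspondent N θ.2 hT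
      (le_inertia N (IsIrr.classFun θ.2)) hχ hθ
    exact hp T hne ψ (IsIrr.isCharacter hψ) hind
  refine ⟨θ, e, θ.2, he, he0, (clifford N hχ θ.2 hθ).trans ?_⟩
  have h1 : (conjOrbit N (θ : N → ℂ)).card = 1 := by
    rw [card_conjOrbit, ← hT, hTtop, Subgroup.index_top]
  obtain ⟨ψ, hψ⟩ := Finset.card_eq_one.1 h1
  have h2 : (θ : N → ℂ) ∈ conjOrbit N (θ : N → ℂ) :=
    (mem_conjOrbit N).2 ⟨1, conjN_one N _⟩
  rw [hψ, Finset.mem_singleton] at h2
  rw [he, hψ, Finset.sum_singleton, h2]

/-- A primitive character irreducible on `N` is irreducible on a normal subgroup of prime index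
in `N`. -/
theorem res_step {χ : G → ℂ} (hχ : IsIrrCharacter G χ) (hp : Prim χ) {M N : Subgroup G} [M.Normal]
    [Fintype N] (hMN : M ≤ N) {r : ℕ} [Fact r.Prime] (hr : M.relIndex N = r)
    (hN : IsIrrCharacter N (fun n : N => χ n)) : IsIrrCharacter M (fun n : M => χ n) := by
  classical
  haveI := Fintype.ofFinite M
  obtain ⟨θ, e, hθ, he, he0, heq⟩ := homog hχ hp M
  set K := M.subgroupOf N with hK
  haveI : K.Normal := Subgroup.Normal.subgroupOf inferInstance _
  haveI := Fintype.ofFinite K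
  set ε := Subgroup.subgroupOfEquivOfLe hMN
  have hθK : IsIrrCharacter K (fun k => θ (ε k)) := IsIrr.comp_mulEquiv ε hθ
  have hval : (fun k : K => χ (k : N)) = (e : ℂ) • fun k => θ (ε k) :=
    funext fun k => congrFun heq (ε k)
  have hne : classInner (fun k : K => χ (k : N)) (fun k => θ (ε k)) = (e : ℂ) := by
    rw [hval, classInner_smul_left, classInner_self_irr hθK, mul_one]
  have hcyc : IsCyclic (N ⧸ K) := isCyclic_of_prime_card (p := r) hr
  have h1 := OverCyclic.mult_one hcyc hθK (ψ := fun n : N => χ n) hN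
    (by rw [hne]; exact Nat.cast_ne_zero.2 he0)
  rw [hne] at h1
  rw [heq, h1, one_smul]
  exact hθ

/-- A primitive character is irreducible on normal subgroups with nilpotent quotient. -/
theorem res_irr {χ : G → ℂ} (hχ : IsIrrCharacter G χ) (hp : Prim χ) :
    ∀ (n : ℕ) (F : Subgroup G) [F.Normal], F.index ≤ n → Group.IsNilpotent (G ⧸ F) →
      IsIrrCharacter F (fun x : F => χ x) := by
  intro n
  induction n with
  | zero => intro F _ h; exact absurd h (by simp [Subgroup.index_ne_zero_of_finite])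
  | succ n ih =>
    intro F _ hn hnil
    by_cases hF : F = ⊤
    · subst hF
      exact IsIrr.comp_mulEquiv Subgroup.topEquiv hχ
    haveI : Nontrivial (G ⧸ F) := QuotientGroup.nontrivial_iff.2 hF
    haveI := hnil
    have hc := Grp.inf_center_ne_bot (⊤ : Subgroup (G ⧸ F)) top_ne_bot
    rw [top_inf_eq] at hc
    obtain ⟨r, hr, hrd⟩ := Nat.exists_prime_and_dvd
      (fun h => hc (Subgroup.eq_bot_of_card_eq _ h))
    haveI := Fact.mk hr
    obtain ⟨z, hz⟩ := exists_prime_orderOf_dvd_card' r hrd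
    set Z := Subgroup.zpowers (z : G ⧸ F)
    haveI : Z.Normal := ⟨fun x hx g => by
      have hxc : x ∈ Subgroup.center (G ⧸ F) := Subgroup.zpowers_le.2 z.2 hx
      rwa [Subgroup.mem_center_iff.1 hxc g, mul_inv_cancel_right]⟩
    set N := Z.comap (QuotientGroup.mk' F) with hN
    haveI : N.Normal := (inferInstance : Z.Normal).comap _
    have hFN : F ≤ N := fun x hx => by
      rw [hN, Subgroup.mem_comap, QuotientGroup.mk'_apply, (QuotientGroup.eq_one_iff x).2 hx]
      exact one_mem _
    have hrel : F.relIndex N = r := by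
      have h1 : Z = N.map (QuotientGroup.mk' F) :=
        (Subgroup.map_comap_eq_self_of_surjective (QuotientGroup.mk'_surjective F) Z).symm
      have h2 : Nat.card Z = r := by rw [Nat.card_zpowers, Subgroup.orderOf_coe, hz]
      rw [← h2, h1, ← Subgroup.relIndex_ker, QuotientGroup.ker_mk']
    have hidx : N.index < F.index := by
      rw [← Subgroup.relIndex_mul_index hFN, hrel]
      exact lt_mul_of_one_lt_left (Nat.pos_of_ne_zero Subgroup.index_ne_zero_of_finite) hr.one_lt
    haveI : Group.IsNilpotent (G ⧸ N) := Group.nilpotent_of_surjective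
      (QuotientGroup.map F N (MonoidHom.id G) hFN) fun x => by
        induction x using QuotientGroup.induction_on with
        | _ g => exact ⟨g, rfl⟩
    haveI := Fintype.ofFinite N
    exact res_step hχ hp hFN hrel (ih N (by omega) inferInstance)

/-- Abelian normal subgroups are central. -/
theorem le_center {χ : G → ℂ} (hχ : IsIrrCharacter G χ) (hp : Prim χ)
    (hfaith : ∀ g, χ g = χ 1 → g = 1) (A : Subgroup G) [A.Normal]
    (hab : ∀ a ∈ A, ∀ b ∈ A, a * b = b * a) : A ≤ Subgroup.center G := by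
  classical
  haveI := Fintype.ofFinite A
  obtain ⟨θ, e, hθ, -, he0, heq⟩ := homog hχ hp A
  have hθ1 : θ 1 = 1 :=
    IsIrr.one_of_comm (fun a b => Subtype.ext (hab a a.2 b b.2)) hθ
  obtain ⟨l, hl⟩ := linearHom_of_isCharacter (IsIrr.isCharacter hθ) hθ1
  have hval : ∀ a : A, χ a = (e : ℂ) * (l a : ℂ) := fun a => by
    have h := congrFun heq a
    rw [Pi.smul_apply, smul_eq_mul] at h
    rw [h]
    congr 1
    exact congrFun hl a
  intro a ha
  rw [Subgroup.mem_center_iff]
  intro g
  set a' : A := ⟨g * a * g⁻¹, (inferInstance : A.Normal).conj_mem a ha g⟩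
  have h2 : l a' = l ⟨a, ha⟩ := by
    refine Units.ext (mul_left_cancel₀ (Nat.cast_ne_zero.2 he0) ?_)
    rw [← hval, ← hval]
    exact IsIrr.classFun hχ a g
  have h3 := hfaith ((a' * ⟨a, ha⟩⁻¹ : A) : G) (by
    rw [hval, show χ 1 = χ ((1 : A) : G) from rfl, hval, map_mul, map_inv, h2, mul_inv_cancel,
      map_one])
  rw [Subgroup.coe_mul, Subgroup.coe_inv, mul_inv_eq_one] at h3
  exact mul_inv_eq_iff_eq_mul.1 h3

/-- The commutators of a nilpotent normal subgroup are central. -/
theorem commutator_center {χ : G → ℂ} (hχ : IsIrrCharacter G χ) (hp : Prim χ)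
    (hfaith : ∀ g, χ g = χ 1 → g = 1) (F : Subgroup G) [F.Normal] [Group.IsNilpotent F] :
    ∀ a ∈ F, ∀ b ∈ F, ⁅a, b⁆ ∈ Subgroup.center G := by
  classical
  set Z := Subgroup.center F with hZ
  set π := QuotientGroup.mk' Z with hπ
  set W₂ := (Subgroup.center (F ⧸ Z)).comap π with hW₂
  haveI : W₂.Characteristic := Subgroup.Characteristic.comap_quotient_mk inferInstance
  set W := commutator F ⊓ W₂ with hW
  have hπ1 : ∀ x, π x = 1 ↔ x ∈ Z := fun x => QuotientGroup.eq_one_iff x
  -- commutators of `F` commute with the second centre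
  have hcomm : ∀ w ∈ W₂, ∀ c ∈ commutator F, c * w = w * c := by
    intro w hw c hc
    have hfw : ∀ f : F, ⁅f, w⁆ ∈ Z := fun f => (hπ1 _).1 (by
      rw [map_commutatorElement, commutatorElement_eq_one_iff_mul_comm]
      exact Subgroup.mem_center_iff.1 hw _)
    let φ : F →* Z :=
      { toFun := fun f => ⟨⁅f, w⁆, hfw f⟩
        map_one' := Subtype.ext (by simp [commutatorElement_def])
        map_mul' := fun a b => Subtype.ext (by
          show ⁅a * b, w⁆ = ⁅a, w⁆ * ⁅b, w⁆
          have h : a * ⁅b, w⁆ * a⁻¹ = ⁅b, w⁆ := by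
            rw [Subgroup.mem_center_iff.1 (hfw b) a, mul_inv_cancel_right]
          rw [show ⁅a * b, w⁆ = (a * ⁅b, w⁆ * a⁻¹) * ⁅a, w⁆ by
            simp only [commutatorElement_def]; group, h,
            Subgroup.mem_center_iff.1 (hfw a) ⁅b, w⁆]) }
    letI : CommGroup Z :=
      { (inferInstance : Group Z) with
        mul_comm := fun a b => Subtype.ext (Subgroup.mem_center_iff.1 b.2 a) }
    have h1 : φ c = 1 := MonoidHom.mem_ker.1 (Abelianization.commutator_subset_ker φ hc)
    exact commutatorElement_eq_one_iff_mul_comm.1 (congrArg Subtype.val h1)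
  haveI : (commutator F).Characteristic := Subgroup.commutator_characteristic _ _
  haveI : W.Normal := Subgroup.normal_inf_normal _ _
  haveI hWc : W.Characteristic := by
    rw [Subgroup.characteristic_iff_comap_eq]
    intro φ
    rw [hW, Subgroup.comap_inf, Subgroup.characteristic_iff_comap_eq.1 inferInstance φ,
      Subgroup.characteristic_iff_comap_eq.1 inferInstance φ]
  have hWZ : W ≤ Z := by
    intro w hw
    have h := le_center hχ hp hfaith (W.map F.subtype) (by
      rintro _ ⟨a, ha, rfl⟩ _ ⟨b, hb, rfl⟩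
      rw [← map_mul, ← map_mul, hcomm b hb.2 a ha.1])
      (Subgroup.mem_map_of_mem F.subtype hw)
    exact Subgroup.mem_center_iff.2 fun f => Subtype.ext (Subgroup.mem_center_iff.1 h f)
  have hbot : (commutator F).map π = ⊥ := by
    by_contra hne
    haveI : ((commutator F).map π).Normal :=
      Subgroup.Normal.map inferInstance π (QuotientGroup.mk'_surjective Z)
    haveI : Group.IsNilpotent (F ⧸ Z) :=
      Group.nilpotent_of_surjective π (QuotientGroup.mk'_surjective Z)
    refine Grp.inf_center_ne_bot _ hne (le_bot_iff.1 ?_)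
    rintro x ⟨⟨c, hc, rfl⟩, hx⟩
    exact Subgroup.mem_bot.2 ((hπ1 c).2 (hWZ ⟨hc, hx⟩))
  intro a ha b hb
  have hF' : (commutator F).map F.subtype ≤ Subgroup.center G := by
    refine le_center hχ hp hfaith _ ?_
    rintro _ ⟨a, ha, rfl⟩ _ ⟨b, _, rfl⟩
    rw [← map_mul, ← map_mul]
    congr 1
    have : a ∈ Z := (hπ1 a).1 (Subgroup.mem_bot.1 (hbot ▸ Subgroup.mem_map_of_mem π ha))
    exact (Subgroup.mem_center_iff.1 this b).symm
  exact hF' ⟨⁅(⟨a, ha⟩ : F), ⟨b, hb⟩⁆,
    Subgroup.commutator_mem_commutator (Subgroup.mem_top _) (Subgroup.mem_top _),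
    map_commutatorElement F.subtype _ _⟩

/-- A faithful character irreducible on a subgroup of class two is fully ramified there. -/
theorem degree_sq {χ : G → ℂ} (hfaith : ∀ g, χ g = χ 1 → g = 1) (hχ : IsIrrCharacter G χ)
    (F : Subgroup G) [Fintype F] (hF : IsIrrCharacter F (fun x : F => χ x))
    (hcomm : ∀ a ∈ F, ∀ b ∈ F, ⁅a, b⁆ ∈ Subgroup.center G)
    (hcent : ∀ x ∈ F, (∀ y ∈ F, y * x = x * y) → x ∈ Subgroup.center G) {d : ℕ}
    (hd : χ 1 = d) : Nat.card (Subgroup.center G ⊓ F : Subgroup G) * d ^ 2 = Nat.card F := by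
  classical
  have hvan : ∀ x ∈ F, x ∉ Subgroup.center G → χ x = 0 := by
    intro x hx hxc
    obtain ⟨y, hy, hyx⟩ : ∃ y ∈ F, y * x ≠ x * y := by
      by_contra h
      push Not at h
      exact hxc (hcent x hx h)
    obtain ⟨c, -, hc⟩ := IsIrr.scalar_of_center hχ (hcomm y hy x hx)
    have hc1 : c ≠ 1 := by
      intro h1
      refine hyx (commutatorElement_eq_one_iff_mul_comm.1 (hfaith _ ?_))
      have := hc 1
      rwa [h1, one_mul, mul_one] at this
    have h := hc x
    rw [show ⁅y, x⁆ * x = y * x * y⁻¹ by simp only [commutatorElement_def]; group,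
      IsIrr.classFun hχ x y] at h
    have h3 : (c - 1) * χ x = 0 := by rw [sub_mul, ← h, one_mul, sub_self]
    exact (mul_eq_zero.1 h3).resolve_left (sub_ne_zero.2 hc1)
  have hn : ∀ x ∈ Subgroup.center G, χ x * conj (χ x) = (d : ℂ) ^ 2 := by
    intro x hx
    obtain ⟨c, hc, hcx⟩ := IsIrr.scalar_of_center hχ hx
    have h1 := hcx 1
    rw [mul_one] at h1
    rw [h1, hd, map_mul, map_natCast, mul_mul_mul_comm, Complex.mul_conj, Complex.normSq_eq_norm_sq,
      hc]
    simp [sq]
  have h := classInner_self_irr hF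
  rw [classInner, inv_mul_eq_one₀ (Nat.cast_ne_zero.2 Nat.card_pos.ne')] at h
  have hsum : ∑ x : F, χ x * conj (χ x) =
      ((Nat.card (Subgroup.center G ⊓ F : Subgroup G) * d ^ 2 : ℕ) : ℂ) := by
    rw [← Finset.sum_filter_add_sum_filter_not Finset.univ
      (fun x : F => (x : G) ∈ Subgroup.center G),
      Finset.sum_congr rfl (g := fun _ => (d : ℂ) ^ 2) fun x hx => hn _ (Finset.mem_filter.1 hx).2,
      Finset.sum_eq_zero (s := Finset.univ.filter fun x : F => (x : G) ∉ Subgroup.center G)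
        fun x hx => by rw [hvan x x.2 (Finset.mem_filter.1 hx).2, zero_mul],
      add_zero, Finset.sum_const, nsmul_eq_mul, Nat.cast_mul, Nat.cast_pow]
    congr 2
    rw [← Fintype.card_subtype, ← Nat.card_eq_fintype_card]
    exact Nat.card_congr
      { toFun := fun x => ⟨x.1.1, x.2, x.1.2⟩
        invFun := fun x => ⟨⟨x.1, x.2.2⟩, x.2.1⟩
        left_inv := fun _ => rfl
        right_inv := fun _ => rfl }
  rw [hsum] at h
  exact_mod_cast h.symm

/-- One prime: an element of a Sylow `q`-subgroup moving at least half of the `p`-part. -/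
theorem exists_moving {H : Type u} [Group H] [Finite H] (V : Subgroup H) [V.Normal]
    (hab : ∀ a ∈ V, ∀ b ∈ V, a * b = b * a) (hnil : Group.IsNilpotent (H ⧸ V))
    (hcen : ∀ x ∈ V, x ∈ Subgroup.center H → x = 1) {p q : ℕ} [hp : Fact p.Prime]
    [hq : Fact q.Prime] (hpq : p ≠ q) (hH : ∀ r : ℕ, r.Prime → r ∣ Nat.card H → r = p ∨ r = q)
    (Q : Sylow q H) :
    ∃ (W : Subgroup H) (b : H), W.Normal ∧ W ≤ V ∧ b ∈ (Q : Subgroup H) ∧
      Nat.card W = p ^ (Nat.card V).factorization p ∧
      Nat.card (W ⊓ Subgroup.centralizer {b} : Subgroup H) ^ 2 ≤ Nat.card W := by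
  classical
  letI : CommGroup V :=
    { (inferInstance : Group V) with mul_comm := fun a b => Subtype.ext (hab a a.2 b b.2) }
  let S : Sylow p V := default
  haveI : (S : Subgroup V).Normal := inferInstance
  haveI : (S : Subgroup V).Characteristic := Sylow.characteristic_of_normal S inferInstance
  set W := (S : Subgroup V).map V.subtype with hW
  haveI : W.Normal := inferInstance
  have hcardS : Nat.card (S : Subgroup V) = p ^ (Nat.card V).factorization p :=
    Sylow.card_eq_multiplicity S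
  have hcardW : Nat.card W = p ^ (Nat.card V).factorization p := by
    rw [hW, Subgroup.card_map_of_injective V.subtype_injective, hcardS]
  have hWV : W ≤ V := Subgroup.map_subtype_le _
  letI : CommGroup W :=
    { (inferInstance : Group W) with
      mul_comm := fun a b => Subtype.ext (hab a (hWV a.2) b (hWV b.2)) }
  let σ : (Q : Subgroup H) →* MulAut W := MulAut.conjNormal.comp (Q : Subgroup H).subtype
  -- the normal subgroup generated by `V` and the Sylow subgroup
  haveI := hnil
  set π := QuotientGroup.mk' V with hπ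
  haveI hQn : ((Q : Subgroup H).map π).Normal :=
    Sylow.normal_of_normalizerCondition Group.normalizerCondition_of_isNilpotent
      (Q.mapSurjective (QuotientGroup.mk'_surjective V))
  set M := ((Q : Subgroup H).map π).comap π with hM
  haveI : M.Normal := hQn.comap π
  set C := W ⊓ Subgroup.centralizer (M : Set H) with hC
  haveI : C.Normal := Subgroup.normal_inf_normal _ _
  have hmem : ∀ (x : H) (hx : x ∈ W), (∀ b : (Q : Subgroup H), σ b ⟨x, hx⟩ = ⟨x, hx⟩) →
      x ∈ C := by
    intro x hx h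
    refine ⟨hx, Subgroup.mem_centralizer_iff.2 fun m hm => ?_⟩
    obtain ⟨b, hb, hbm⟩ := (hm : π m ∈ (Q : Subgroup H).map π)
    have hv : b⁻¹ * m ∈ V := QuotientGroup.eq.1 hbm
    have h1 : b * x * b⁻¹ = x := congrArg Subtype.val (h ⟨b, hb⟩)
    have h2 := hab _ hv x (hWV hx)
    calc m * x = b * ((b⁻¹ * m) * x) := by group
      _ = (b * x * b⁻¹) * m := by rw [h2]; group
      _ = x * m := by rw [h1]
  have hCbot : C = ⊥ := by
    by_contra hne
    let P₀ : Sylow p H := default
    have hCp : IsPGroup p C := (IsPGroup.of_card (n := (Nat.card V).factorization p) hcardW).to_le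
      inf_le_left
    obtain ⟨P, hCP⟩ := hCp.exists_le_sylow
    haveI : Group.IsNilpotent (P : Subgroup H) := P.isPGroup'.isNilpotent
    haveI : (C.subgroupOf (P : Subgroup H)).Normal := Subgroup.Normal.subgroupOf inferInstance _
    obtain ⟨⟨x, hxP⟩, hx, hx1⟩ := (Subgroup.bot_or_exists_ne_one _).resolve_left
      (Grp.inf_center_ne_bot (C.subgroupOf (P : Subgroup H)) (fun h => hne (by
        rw [Subgroup.subgroupOf_eq_bot] at h
        exact le_bot_iff.1 (le_trans (le_inf le_rfl hCP) h.le_bot))))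
    have hxC : x ∈ C := hx.1
    have hPle : (P : Subgroup H) ≤ Subgroup.centralizer {x} := fun y hy =>
      Subgroup.mem_centralizer_singleton_iff.2
        (congrArg Subtype.val (Subgroup.mem_center_iff.1 hx.2 ⟨y, hy⟩))
    have hQle : (Q : Subgroup H) ≤ Subgroup.centralizer {x} := fun y hy =>
      Subgroup.mem_centralizer_singleton_iff.2 (Subgroup.mem_centralizer_iff.1 hxC.2 y
        (Subgroup.mem_map_of_mem π hy : π y ∈ (Q : Subgroup H).map π))
    have hall : Nat.card H ∣ Nat.card (Subgroup.centralizer ({x} : Set H)) := by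
      refine (Nat.factorization_le_iff_dvd Nat.card_pos.ne' Nat.card_pos.ne').1 fun r => ?_
      by_cases hr : r.Prime ∧ r ∣ Nat.card H
      · rcases hH r hr.1 hr.2 with rfl | rfl
        · refine (hr.1.pow_dvd_iff_le_factorization Nat.card_pos.ne').1 ?_
          rw [← P.card_eq_multiplicity]
          exact Subgroup.card_dvd_of_le hPle
        · refine (hr.1.pow_dvd_iff_le_factorization Nat.card_pos.ne').1 ?_
          rw [← Q.card_eq_multiplicity]
          exact Subgroup.card_dvd_of_le hQle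
      · rw [Nat.factorization_eq_zero_iff _ r |>.2]
        · exact Nat.zero_le _
        · tauto
    have htop : Subgroup.centralizer ({x} : Set H) = ⊤ :=
      Subgroup.eq_top_of_card_eq _ (Nat.dvd_antisymm (Subgroup.card_subgroup_dvd_card _) hall)
    exact hx1 (Subtype.ext (hcen x (hWV hxC.1) (Subgroup.mem_center_iff.2 fun g =>
      Subgroup.mem_centralizer_singleton_iff.1 (htop ▸ Subgroup.mem_top g))))
  obtain ⟨b, hb⟩ := exists_small_fix σ Q.isPGroup' (by
    rw [hcardW]
    exact ((Nat.coprime_primes hp.out hq.out).2 hpq).pow_left _)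
    fun w hw => Subtype.ext (Subgroup.mem_bot.1 (hCbot ▸ hmem w w.2 hw))
  refine ⟨W, b, inferInstance, hWV, b.2, hcardW, le_trans (Nat.pow_le_pow_left ?_ 2) hb⟩
  refine Nat.card_le_card_of_injective (fun x => (⟨⟨x.1, x.2.1⟩, Subtype.ext ?_⟩ : fix σ b))
    fun x y h => Subtype.ext (congrArg (fun t : fix σ b => ((t : W) : H)) h)
  show (b : H) * x * (b : H)⁻¹ = x
  rw [← Subgroup.mem_centralizer_singleton_iff.1 x.2.2, mul_inv_cancel_right]

theorem relIndex_dvd_index {H : Type u} [Group H] [Finite H] (C W : Subgroup H) [W.Normal] :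
    C.relIndex W ∣ C.index := by
  have h1 := Subgroup.relIndex_mul_relIndex (C ⊓ W) C (C ⊔ W) inf_le_left le_sup_left
  have h2 := Subgroup.relIndex_mul_relIndex (C ⊓ W) W (C ⊔ W) inf_le_right le_sup_right
  rw [Subgroup.inf_relIndex_right, Subgroup.relIndex_sup_right] at h2
  rw [inf_comm, Subgroup.inf_relIndex_right, inf_comm, ← h2, mul_comm (C.relIndex W)] at h1
  rw [← mul_left_cancel₀ (Subgroup.index_ne_zero_of_finite) h1]
  exact Dvd.intro _ (Subgroup.relIndex_mul_index le_sup_left)

/-- Two commuting images: an element inducing the moves of both. -/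
theorem exists_class {H : Type u} [Group H] [Finite H] (V : Subgroup H) [V.Normal]
    (hab : ∀ a ∈ V, ∀ b ∈ V, a * b = b * a) (hnil : Group.IsNilpotent (H ⧸ V))
    (hcen : ∀ x ∈ V, x ∈ Subgroup.center H → x = 1) {p q : ℕ} [hp : Fact p.Prime]
    [hq : Fact q.Prime] (hpq : p ≠ q) (hH : ∀ r : ℕ, r.Prime → r ∣ Nat.card H → r = p ∨ r = q) :
    ∃ h : H, ∀ d : ℕ, d ^ 2 = Nat.card V →
      d.factorization p ≤ (Subgroup.centralizer ({h} : Set H)).index.factorization p ∧
      d.factorization q ≤ (Subgroup.centralizer ({h} : Set H)).index.factorization q := by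
  classical
  let P : Sylow p H := default
  let Q : Sylow q H := default
  obtain ⟨Wp, b, hWp, hWpV, hb, hWpc, hbW⟩ := exists_moving V hab hnil hcen hpq hH Q
  obtain ⟨Wq, a, hWq, hWqV, ha, hWqc, haW⟩ := exists_moving V hab hnil hcen hpq.symm
    (fun r hr hd => (hH r hr hd).symm) P
  haveI := hnil
  set π := QuotientGroup.mk' V with hπ
  have hs := QuotientGroup.mk'_surjective V
  haveI : ((P : Subgroup H).map π).Normal :=
    Sylow.normal_of_normalizerCondition Group.normalizerCondition_of_isNilpotent (P.mapSurjective hs)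
  haveI : ((Q : Subgroup H).map π).Normal :=
    Sylow.normal_of_normalizerCondition Group.normalizerCondition_of_isNilpotent (Q.mapSurjective hs)
  have hco : Commute (π a) (π b) := Subgroup.commute_of_normal_of_disjoint _ _ inferInstance
    inferInstance (IsPGroup.disjoint_of_ne p q hpq _ _ (P.isPGroup'.map π) (Q.isPGroup'.map π))
    _ _ (Subgroup.mem_map_of_mem π ha) (Subgroup.mem_map_of_mem π hb)
  refine ⟨a * b, fun d hd => ?_⟩
  have key : ∀ (s t : ℕ) [Fact s.Prime] [Fact t.Prime], s ≠ t → ∀ (y z : H) (W : Subgroup H),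
      W.Normal → W ≤ V → (∃ k, y ^ s ^ k = 1) → (∃ k, z ^ t ^ k = 1) → Commute (π y) (π z) →
      Nat.card W = s ^ (Nat.card V).factorization s →
      Nat.card (W ⊓ Subgroup.centralizer {z} : Subgroup H) ^ 2 ≤ Nat.card W →
      ∀ h : H, π h = π y * π z →
        d.factorization s ≤ (Subgroup.centralizer ({h} : Set H)).index.factorization s := by
    intro s t hs' ht' hst y z W hW hWV ⟨k, hk⟩ ⟨l, hl⟩ hcyz hWc hzW h hh
    obtain ⟨m, hm1, hm2⟩ := Nat.chineseRemainder
      (Nat.Coprime.pow k l ((Nat.coprime_primes hs'.out ht'.out).2 hst)) 0 1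
    have hpy : π y ^ m = 1 := by
      obtain ⟨c, hc⟩ := Nat.modEq_zero_iff_dvd.1 hm1
      rw [hc, pow_mul, ← map_pow, hk, map_one, one_pow]
    have hpz : π z ^ m = π z := by
      have h1 := pow_eq_pow_mod (M := H ⧸ V) (a := π z) (n := t ^ l) m (by rw [← map_pow, hl, map_one])
      rw [h1, hm2, ← pow_eq_pow_mod 1 (by rw [← map_pow, hl, map_one]), pow_one]
    have hv : z⁻¹ * h ^ m ∈ V := QuotientGroup.eq.1 (show π z = π (h ^ m) by
      rw [map_pow, hh, hcyz.mul_pow, hpy, hpz, one_mul])
    have hle : W ⊓ Subgroup.centralizer {h} ≤ W ⊓ Subgroup.centralizer {z} := by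
      rintro x ⟨hxW, hx⟩
      refine ⟨hxW, Subgroup.mem_centralizer_singleton_iff.2 ?_⟩
      have hxh : Commute x h := Subgroup.mem_centralizer_singleton_iff.1 hx
      have h1 : x * h ^ m = h ^ m * x := hxh.pow_right m
      have h2 : x * (z⁻¹ * h ^ m) = (z⁻¹ * h ^ m) * x := hab x (hWV hxW) _ hv
      calc x * z = x * h ^ m * (z⁻¹ * h ^ m)⁻¹ := by group
        _ = h ^ m * (x * (z⁻¹ * h ^ m)⁻¹) := by rw [h1]; group
        _ = h ^ m * ((z⁻¹ * h ^ m)⁻¹ * x) := by
          rw [(show Commute x (z⁻¹ * h ^ m) from h2).inv_right.eq]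
        _ = z * x := by group
    haveI := hW
    set C := Subgroup.centralizer ({h} : Set H)
    set f := Nat.card (W ⊓ C : Subgroup H)
    have hif : C.relIndex W * f = Nat.card W := by
      rw [← Subgroup.inf_relIndex_right, inf_comm C W, mul_comm]
      show Nat.card (W ⊓ C : Subgroup H) * _ = _
      rw [← Subgroup.relIndex_bot_left, Subgroup.relIndex_mul_relIndex _ _ _
        bot_le inf_le_left, Subgroup.relIndex_bot_left]
    have hff : f ^ 2 ≤ Nat.card W :=
      le_trans (Nat.pow_le_pow_left (Nat.le_of_dvd Nat.card_pos (Subgroup.card_dvd_of_le hle)) 2) hzW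
    have hV : (Nat.card V).factorization s = 2 * d.factorization s := by
      rw [← hd, Nat.factorization_pow]; rfl
    rw [hWc, hV] at hif hff
    obtain ⟨j, hj, hfj⟩ := (Nat.dvd_prime_pow hs'.out).1 (Dvd.intro_left _ hif)
    have hjle : j ≤ d.factorization s := by
      rw [hfj, ← pow_mul] at hff
      have := (Nat.pow_le_pow_iff_right hs'.out.one_lt).1 hff
      omega
    have hi : C.relIndex W = s ^ (2 * d.factorization s - j) := by
      refine Nat.eq_of_mul_eq_mul_right (pow_pos hs'.out.pos j) ?_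
      rw [← pow_add, Nat.sub_add_cancel hj, ← hfj, hif]
    refine (hs'.out.pow_dvd_iff_le_factorization Subgroup.index_ne_zero_of_finite).1 ?_
    refine (pow_dvd_pow s (show d.factorization s ≤ 2 * d.factorization s - j by omega)).trans ?_
    exact hi ▸ relIndex_dvd_index C W
  obtain ⟨k, hk⟩ := P.isPGroup' ⟨a, ha⟩
  obtain ⟨l, hl⟩ := Q.isPGroup' ⟨b, hb⟩
  exact ⟨key p q hpq a b Wp hWp hWpV ⟨k, congrArg Subtype.val hk⟩ ⟨l, congrArg Subtype.val hl⟩
      hco hWpc hbW _ (map_mul π a b),
    key q p hpq.symm b a Wq hWq hWqV ⟨l, congrArg Subtype.val hl⟩ ⟨k, congrArg Subtype.val hk⟩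
      hco.symm hWqc haW _ ((map_mul π a b).trans hco.eq)⟩

theorem index_dvd_of_hom {X Y : Type u} [Group X] [Group Y] [Finite X] (f : X →* Y)
    (hf : Function.Surjective f) (g : X) :
    (Subgroup.centralizer ({f g} : Set Y)).index ∣ (Subgroup.centralizer ({g} : Set X)).index := by
  rw [← Subgroup.index_comap_of_surjective _ hf]
  refine Subgroup.index_dvd_of_le fun x hx => Subgroup.mem_comap.2
    (Subgroup.mem_centralizer_singleton_iff.2 ?_)
  rw [← map_mul, ← map_mul, Subgroup.mem_centralizer_singleton_iff.1 hx]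

/-- The faithful case. -/
theorem dvd_class_faithful {χ : G → ℂ} (hχ : IsIrrCharacter G χ) (hp : Prim χ)
    (hfaith : ∀ g, χ g = χ 1 → g = 1) (F : Subgroup G) [F.Normal] [Group.IsNilpotent F]
    (hnil : Group.IsNilpotent (G ⧸ F)) {p q : ℕ} [hp' : Fact p.Prime] [hq' : Fact q.Prime]
    (hpq : p ≠ q) (hG : ∀ r : ℕ, r.Prime → r ∣ Nat.card G → r = p ∨ r = q) {d : ℕ}
    (hd : χ 1 = d) : ∃ g : G, d ∣ (Subgroup.centralizer ({g} : Set G)).index := by
  classical
  haveI := Fintype.ofFinite F
  have hcomm := commutator_center hχ hp hfaith F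
  have hcent : ∀ x ∈ F, (∀ y ∈ F, y * x = x * y) → x ∈ Subgroup.center G := by
    intro x hx h
    haveI : (F ⊓ Subgroup.centralizer (F : Set G)).Normal := Subgroup.normal_inf_normal _ _
    exact le_center hχ hp hfaith (F ⊓ Subgroup.centralizer (F : Set G))
      (fun a ha b hb => Subgroup.mem_centralizer_iff.1 hb.2 a ha.1)
      ⟨hx, Subgroup.mem_centralizer_iff.2 h⟩
  have hsq := degree_sq hfaith hχ F (res_irr hχ hp _ F le_rfl hnil) hcomm hcent hd
  set Z := Subgroup.center G ⊓ F with hZ
  haveI : Z.Normal := Subgroup.normal_inf_normal _ _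
  set π := QuotientGroup.mk' Z with hπ
  have hs := QuotientGroup.mk'_surjective Z
  set V := F.map π with hV
  haveI : V.Normal := Subgroup.Normal.map inferInstance π hs
  have hcomap : V.comap π = F :=
    Subgroup.comap_map_eq_self (by rw [QuotientGroup.ker_mk']; exact inf_le_right)
  have hVc : Nat.card V = d ^ 2 := by
    have h1 : Nat.card Z * Nat.card V = Nat.card F := by
      have := QPrim.card_comap_surj π hs V
      rw [hcomap, QuotientGroup.ker_mk'] at this
      exact this.symm
    exact Nat.eq_of_mul_eq_mul_left Nat.card_pos (h1.trans hsq.symm)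
  have hab : ∀ a ∈ V, ∀ b ∈ V, a * b = b * a := by
    rintro _ ⟨a, ha, rfl⟩ _ ⟨b, hb, rfl⟩
    rw [← commutatorElement_eq_one_iff_mul_comm, ← map_commutatorElement,
      QuotientGroup.mk'_apply, QuotientGroup.eq_one_iff]
    refine Subgroup.mem_inf.2 ⟨hcomm a ha b hb, ?_⟩
    rw [commutatorElement_def]
    exact mul_mem (mul_mem (mul_mem ha hb) (inv_mem ha)) (inv_mem hb)
  have hnil' : Group.IsNilpotent ((G ⧸ Z) ⧸ V) := by
    haveI := hnil
    refine Group.nilpotent_of_surjective
      (QuotientGroup.map F V π (fun x hx => Subgroup.mem_map_of_mem π hx)) fun x => ?_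
    induction x using QuotientGroup.induction_on with
    | _ y =>
      obtain ⟨g, rfl⟩ := hs y
      exact ⟨g, rfl⟩
  have hcen : ∀ x ∈ V, x ∈ Subgroup.center (G ⧸ Z) → x = 1 := by
    rintro _ ⟨w, hw, rfl⟩ hx
    rw [hπ, QuotientGroup.mk'_apply, QuotientGroup.eq_one_iff]
    set A := Subgroup.zpowers w ⊔ Z with hA
    have hwg : ∀ g : G, g * w * g⁻¹ * w⁻¹ ∈ Z := fun g => by
      rw [← QuotientGroup.eq_one_iff]
      show π (g * w * g⁻¹ * w⁻¹) = 1
      simp only [map_mul, map_inv]
      rw [Subgroup.mem_center_iff.1 hx (π g), mul_inv_cancel_right, mul_inv_cancel]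
    haveI : A.Normal := ⟨fun x hx g => by
      have h : A ≤ A.comap (MulAut.conj g).toMonoidHom := sup_le (Subgroup.zpowers_le.2 (by
        show g * w * g⁻¹ ∈ A
        rw [show g * w * g⁻¹ = (g * w * g⁻¹ * w⁻¹) * w by group]
        exact mul_mem (Subgroup.mem_sup_right (hwg g))
          (Subgroup.mem_sup_left (Subgroup.mem_zpowers w))))
        fun z hz => Subgroup.mem_sup_right ((inferInstance : Z.Normal).conj_mem z hz g)
      exact h hx⟩
    refine ⟨le_center hχ hp hfaith A (fun a ha b hb => ?_)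
      (Subgroup.mem_sup_left (Subgroup.mem_zpowers w)), hw⟩
    obtain ⟨_, ⟨i, rfl⟩, z, hz, rfl⟩ := Subgroup.mem_sup_of_normal_right.1 ha
    obtain ⟨_, ⟨j, rfl⟩, z', hz', rfl⟩ := Subgroup.mem_sup_of_normal_right.1 hb
    have c1 : Commute (w ^ i) z' := Subgroup.mem_center_iff.1 hz'.1 _
    have c2 : Commute z (w ^ j * z') := (Subgroup.mem_center_iff.1 hz.1 _).symm
    exact (((Commute.refl w).zpow_zpow i j).mul_right c1).mul_left c2
  have hH : ∀ r : ℕ, r.Prime → r ∣ Nat.card (G ⧸ Z) → r = p ∨ r = q := fun r hr h =>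
    hG r hr (h.trans (Subgroup.card_quotient_dvd_card Z))
  obtain ⟨h, hh⟩ := exists_class V hab hnil' hcen hpq hH
  obtain ⟨g, rfl⟩ := hs h
  refine ⟨g, Nat.dvd_trans ?_ (index_dvd_of_hom π hs g)⟩
  obtain ⟨hh1, hh2⟩ := hh d hVc.symm
  have hd0 : d ≠ 0 := fun h0 => IsIrr.one_ne_zero hχ (by rw [hd, h0, Nat.cast_zero])
  refine (Nat.factorization_le_iff_dvd hd0 Subgroup.index_ne_zero_of_finite).1 fun r => ?_
  by_cases hr : r.Prime ∧ r ∣ d
  · rcases hH r hr.1 (hr.2.trans ((dvd_pow_self d two_ne_zero).trans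
      (hVc ▸ Subgroup.card_subgroup_dvd_card V))) with rfl | rfl
    exacts [hh1, hh2]
  · rw [Nat.factorization_eq_zero_iff _ r |>.2]
    · exact Nat.zero_le _
    · tauto

/-- The general case. -/
theorem dvd_class {χ : G → ℂ} (hχ : IsIrrCharacter G χ) (hp : Prim χ) (F : Subgroup G) [F.Normal]
    [Group.IsNilpotent F] (hnil : Group.IsNilpotent (G ⧸ F)) {p q : ℕ} [Fact p.Prime]
    [Fact q.Prime] (hpq : p ≠ q) (hG : ∀ r : ℕ, r.Prime → r ∣ Nat.card G → r = p ∨ r = q) {d : ℕ}
    (hd : χ 1 = d) : ∃ g : G, d ∣ (Subgroup.centralizer ({g} : Set G)).index := by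
  classical
  have hc := IsIrr.isCharacter hχ
  set K := charKer hc with hK
  haveI : K.Normal := charKer_normal hc
  obtain ⟨ψ, hψ, hψχ⟩ := IsIrr.exists_factor_quotient hχ K fun k hk => (mem_charKer hc).1 hk
  set π := QuotientGroup.mk' K with hπ
  have hs := QuotientGroup.mk'_surjective K
  haveI := Fintype.ofFinite (G ⧸ K)
  have hfaith : ∀ y, ψ y = ψ 1 → y = 1 := by
    intro y hy
    obtain ⟨g, rfl⟩ := hs y
    rw [show (1 : G ⧸ K) = ((1 : G) : G ⧸ K) from rfl, QuotientGroup.mk'_apply, hψχ, hψχ] at hy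
    exact (QuotientGroup.eq_one_iff g).2 ((mem_charKer hc).2 hy)
  have hp' : Prim ψ := by
    intro H hH θ hθ heq
    refine hp (H.comap π) (fun h => hH ?_) (fun x => θ ⟨π x, x.2⟩)
      (IsChar.comp (π.subgroupComap H) hθ) (funext fun a => ?_)
    · rw [← Subgroup.map_comap_eq_self_of_surjective hs H, h,
        Subgroup.map_top_of_surjective π hs]
    · rw [QPrim.indFun_comap π hs H θ a, heq]
      exact hψχ a
  haveI : (F.map π).Normal := Subgroup.Normal.map inferInstance π hs
  haveI : Group.IsNilpotent (F.map π) :=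
    Group.nilpotent_of_surjective (π.subgroupMap F) (π.subgroupMap_surjective F)
  have hnil' : Group.IsNilpotent ((G ⧸ K) ⧸ F.map π) := by
    haveI := hnil
    refine Group.nilpotent_of_surjective
      (QuotientGroup.map F (F.map π) π (fun x hx => Subgroup.mem_map_of_mem π hx)) fun x => ?_
    induction x using QuotientGroup.induction_on with
    | _ y =>
      obtain ⟨g, rfl⟩ := hs y
      exact ⟨g, rfl⟩
  obtain ⟨y, hy⟩ := dvd_class_faithful hψ hp' hfaith (F.map π) hnil' hpq
    (fun r hr h => hG r hr (h.trans (Subgroup.card_quotient_dvd_card K))) (d := d)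
    (by rw [show (1 : G ⧸ K) = ((1 : G) : G ⧸ K) from rfl, hψχ, hd])
  obtain ⟨g, rfl⟩ := hs y
  exact ⟨g, hy.trans (index_dvd_of_hom π hs g)⟩

end Cfsg.Agent.Block.PrimClass
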